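import Cfsg.Agent.H538.TC.SLThreeB

/-!
Every nonscalar element of `SL₃(F)` is a product of two conjugates of a given element with irreducible characteristic
polynomial (S2464): `sl_three`; `(s, r)` arbitrary for `|F| ≥ 5`, `(1, -1)` for `|F| = 3`, `(0, 1)` for `|F| = 4`.
-/

set_option autoImplicit false

namespace Cfsg.Agent.H538.TC

open Matrix Polynomial
open Cfsg.Agent.H126.M3 (cu charpoly_three)

variable {F : Type*} [Field F]

/-! ### Inverses -/

theorem c3_two (A B D : F) : (X ^ 3 - C A * X ^ 2 + C B * X - C D : F[X]).coeff 2 = -A := by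
  rw [coeff_sub, coeff_add, coeff_sub, coeff_C_mul, coeff_C_mul, coeff_X_pow, coeff_X_pow, coeff_X, coeff_C]
  norm_num

theorem c3_one (A B D : F) : (X ^ 3 - C A * X ^ 2 + C B * X - C D : F[X]).coeff 1 = B := by
  rw [coeff_sub, coeff_add, coeff_sub, coeff_C_mul, coeff_C_mul, coeff_X_pow, coeff_X_pow, coeff_X, coeff_C]
  norm_num

theorem inv_of_charpoly {s r : F} {M : Matrix (Fin 3) (Fin 3) F} (h : M.charpoly = cu s r) :
    M 0 0 + M 1 1 + M 2 2 = s ∧
      M 0 0 * M 1 1 - M 0 1 * M 1 0 + (M 0 0 * M 2 2 - M 0 2 * M 2 0) + (M 1 1 * M 2 2 - M 1 2 * M 2 1) = r := by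
  rw [charpoly_three] at h
  constructor
  · have h1 : Polynomial.coeff _ 2 = Polynomial.coeff _ 2 := congrArg (fun p : F[X] => p.coeff 2) h
    rw [cu, c3_two, c3_two] at h1
    exact neg_injective h1
  · have h1 : Polynomial.coeff _ 1 = Polynomial.coeff _ 1 := congrArg (fun p : F[X] => p.coeff 1) h
    rw [cu, c3_one, c3_one] at h1
    exact h1

theorem adj_charpoly {s r : F} {M : Matrix (Fin 3) (Fin 3) F} (hd : M.det = 1) (h : M.charpoly = cu s r) :
    M.adjugate.charpoly = cu r s := by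
  obtain ⟨h1, h2⟩ := inv_of_charpoly h
  have hd' := hd
  rw [Matrix.det_fin_three] at hd'
  refine charpoly_of ?_ ?_ ?_
  · rw [Matrix.det_adjugate, hd, one_pow]
  · rw [Matrix.adjugate_fin_three]
    simp
    linear_combination h2
  · rw [Matrix.adjugate_fin_three]
    simp
    linear_combination h1 + (M 0 0 + M 1 1 + M 2 2) * hd'

theorem FF.inv {s r : F} {l l' : Matrix (Fin 3) (Fin 3) F} (h : FF r s l') (e : l * l' = 1) : FF s r l := by
  obtain ⟨X, Y, hX, hY, rfl, hXc, hYc⟩ := h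
  refine ⟨Y.adjugate, X.adjugate, by rw [Matrix.det_adjugate, hY, one_pow], by rw [Matrix.det_adjugate, hX, one_pow],
    ?_, adj_charpoly hY hYc, adj_charpoly hX hXc⟩
  have h1 : X * Y * (Y.adjugate * X.adjugate) = 1 := by
    calc X * Y * (Y.adjugate * X.adjugate) = X * (Y * Y.adjugate) * X.adjugate := by simp only [mul_assoc]
      _ = 1 := by rw [Matrix.mul_adjugate, hY, one_smul, mul_one, Matrix.mul_adjugate, hX, one_smul]
  calc l = l * (X * Y * (Y.adjugate * X.adjugate)) := by rw [h1, mul_one]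
    _ = l * (X * Y) * (Y.adjugate * X.adjugate) := by simp only [mul_assoc]
    _ = Y.adjugate * X.adjugate := by rw [e, one_mul]

theorem ff_cyc {s r t t' : F} (hg : Good s r) {l : Matrix (Fin 3) (Fin 3) F} (hl : CycM t t' l) : FF s r l := by
  rcases hg t t' with h | h
  · exact ff_of_sol hl h
  · have h1 : CycM t' t (!![t', 1, 0; -t, 0, 1; 1, 0, 0] : Matrix (Fin 3) (Fin 3) F) := by
      refine ⟨!![0, 0, 1; 0, 1, 0; 1, 0, 0], ?_, ?_⟩
      · rw [Matrix.det_fin_three]
        simp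
      · ext i j
        fin_cases i <;> fin_cases j <;> simp [Co, Matrix.mul_apply, Fin.sum_univ_three]
    have h2 : FF s r (Co t t') := (ff_of_sol h1 h).inv (by
      ext i j
      fin_cases i <;> fin_cases j <;> simp [Co, Matrix.mul_apply, Fin.sum_univ_three])
    exact FF.cyc hl ⟨1, by rw [Matrix.det_one]; exact one_ne_zero, by rw [mul_one, one_mul]⟩ h2

/-! ### Scalar plus rank one -/

theorem ff_rank_one {s r : F} (hirr : ∀ x, (cu s r).eval x ≠ 0) {k δ h : F} {N : Matrix (Fin 3) (Fin 3) F}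
    (hN : N = !![0, -k * δ, -k * h; 1, k + δ, h; 0, 0, k]) (hd : N.det = 1) : FF s r N := by
  have hk3 : k ^ 2 * δ = 1 := by
    rw [hN, Matrix.det_fin_three] at hd
    simp at hd
    linear_combination hd
  have hk : k ≠ 0 := by
    rintro rfl
    simp at hk3
  have hr1 : N - k • (1 : Matrix (Fin 3) (Fin 3) F) = Matrix.vecMulVec ![-k, 1, 0] ![1, δ, h] := by
    rw [hN]
    ext i j
    fin_cases i <;> fin_cases j <;> simp [Matrix.vecMulVec_apply]
  have hrank : (N - k • (1 : Matrix (Fin 3) (Fin 3) F)).rank = 1 := by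
    refine le_antisymm ?_ ?_
    · rw [hr1]
      exact Matrix.rank_vecMulVec_le _ _
    · rw [Nat.one_le_iff_ne_zero]
      intro h0
      have h1 : N - k • (1 : Matrix (Fin 3) (Fin 3) F) = 0 := by
        rw [Matrix.rank, Submodule.finrank_eq_zero, LinearMap.range_eq_bot] at h0
        ext i j
        have h2 := congrFun (LinearMap.congr_fun h0 (Pi.single j 1)) i
        rw [Matrix.mulVecLin_apply, Matrix.mulVec_single_one] at h2
        exact h2
      rw [hr1] at h1
      have h2 := congrFun (congrFun h1 1) 0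
      simp [Matrix.vecMulVec_apply] at h2
  have hmon : ∀ a b : F, (cu a b).Monic ∧ (cu a b).natDegree = 3 := by
    intro a b
    have h1 : (cu a b) = X ^ 3 + (-(C a) * X ^ 2 + C b * X - C 1) := by
      rw [cu]
      ring
    have h2 : (-(C a) * X ^ 2 + C b * X - C 1 : F[X]).degree < 3 := by
      refine lt_of_le_of_lt (b := ((2 : ℕ) : WithBot ℕ)) ?_ (by norm_num)
      rw [← natDegree_le_iff_degree_le]
      compute_degree
    constructor
    · rw [h1]
      exact monic_X_pow_add (by exact_mod_cast h2)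
    · rw [h1]
      exact natDegree_eq_of_degree_eq_some (by
        rw [degree_add_eq_left_of_degree_lt (by rw [degree_X_pow]; exact_mod_cast h2), degree_X_pow])
  have hc0 : ∀ a b : F, (cu a b).coeff 0 = -1 := by
    intro a b
    simp [cu, coeff_X, coeff_C, coeff_X_pow]
  obtain ⟨X', Z, e, hX, hZ⟩ := Cfsg.Agent.H130.War.exists_mul_rank_one (by norm_num) N hk hrank (p := cu s r)
    (g := cu r s) (hmon s r).1 (hmon s r).2 (hmon r s).1 (hmon r s).2 (by rw [hc0]; exact neg_ne_zero.2 one_ne_zero)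
    (by rw [hc0, hc0, hd, one_mul]) (by
      intro hp
      -- the bad case has a root
      have h0 := congrArg (fun p : F[X] => p.eval 0) hp
      have h1 := congrArg (fun p : F[X] => p.eval (k ^ 2)) hp
      have hk1 : k * k⁻¹ = 1 := mul_inv_cancel₀ hk
      have h3 : k ^ 3 = 1 := by
        simp [cu] at h0
        linear_combination -h0
      apply hirr (k ^ 2)
      have hcoef := congrArg (fun p : F[X] => p.coeff 2) hp
      have hs : s = r * k := by
        have hh : (C (k ^ 3) * (cu r s).comp (C k⁻¹ * X)) =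
            C (k ^ 3 * k⁻¹ ^ 3) * X ^ 3 - C (k ^ 3 * k⁻¹ ^ 2 * r) * X ^ 2 + C (k ^ 3 * k⁻¹ * s) * X - C (k ^ 3) := by
          simp only [cu, sub_comp, add_comp, mul_comp, pow_comp, X_comp, C_comp, C_mul, C_pow, map_one, one_comp]
          ring
        have hk0 : k ^ 3 * k⁻¹ ^ 3 = 1 := by
          rw [← mul_pow, hk1, one_pow]
        rw [hh, hk0, C_1, one_mul] at hcoef
        have hcoef' : Polynomial.coeff _ 2 = Polynomial.coeff _ 2 := hcoef
        rw [cu, c3_two, c3_two] at hcoef'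
        have h4 : k ^ 3 * k⁻¹ ^ 2 = k := by
          calc k ^ 3 * k⁻¹ ^ 2 = k * (k * k⁻¹) ^ 2 := by ring
            _ = k := by rw [hk1, one_pow, mul_one]
        rw [h4] at hcoef'
        linear_combination -hcoef'
      simp only [cu, eval_sub, eval_add, eval_mul, eval_pow, eval_X, eval_C]
      rw [hs]
      linear_combination (k ^ 3 + 1 - r * k ^ 2) * h3)
  -- `N = X' Z⁻¹`
  have hdet : ∀ (M : Matrix (Fin 3) (Fin 3) F) (a b : F), M.charpoly = cu a b → M.det = 1 := by
    intro M a b hM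
    have h1 := congrArg (fun p : F[X] => p.coeff 0) hM
    simp only [hc0] at h1
    rw [Matrix.det_eq_sign_charpoly_coeff, h1]
    norm_num [Fintype.card_fin]
  have hZd := hdet Z r s hZ
  refine ⟨X', Z.adjugate, hdet X' s r hX, by rw [Matrix.det_adjugate, hZd, one_pow], ?_, hX, adj_charpoly hZd hZ⟩
  rw [← e, mul_assoc, Matrix.mul_adjugate, hZd, one_smul, mul_one]

/-! ### The theorem -/

theorem exists_basis {l : Matrix (Fin 3) (Fin 3) F} (hns : ∀ a : F, l ≠ a • (1 : Matrix (Fin 3) (Fin 3) F)) :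
    ∃ w y : Fin 3 → F, (Matrix.of fun i j => ![w i, (l *ᵥ w) i, y i] j : Matrix (Fin 3) (Fin 3) F).det ≠ 0 := by
  by_contra hcon
  push Not at hcon
  apply hns (l 0 0)
  have key : ∀ w0 w1 w2 y0 y1 y2 : F,
      w0 * (l 1 0 * w0 + l 1 1 * w1 + l 1 2 * w2) * y2 - w0 * y1 * (l 2 0 * w0 + l 2 1 * w1 + l 2 2 * w2) -
        (l 0 0 * w0 + l 0 1 * w1 + l 0 2 * w2) * w1 * y2 + (l 0 0 * w0 + l 0 1 * w1 + l 0 2 * w2) * y1 * w2 +
        y0 * w1 * (l 2 0 * w0 + l 2 1 * w1 + l 2 2 * w2) - y0 * (l 1 0 * w0 + l 1 1 * w1 + l 1 2 * w2) * w2 = 0 := by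
    intro w0 w1 w2 y0 y1 y2
    have h1 := hcon ![w0, w1, w2] ![y0, y1, y2]
    rw [Matrix.det_fin_three] at h1
    simp [Matrix.mulVec, dotProduct, Fin.sum_univ_three] at h1
    linear_combination h1
  have h10 : l 1 0 = 0 := by have := key 1 0 0 0 0 1; linear_combination this
  have h20 : l 2 0 = 0 := by have := key 1 0 0 0 1 0; linear_combination -this
  have h01 : l 0 1 = 0 := by have := key 0 1 0 0 0 1; linear_combination -this
  have h21 : l 2 1 = 0 := by have := key 0 1 0 1 0 0; linear_combination this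
  have h02 : l 0 2 = 0 := by have := key 0 0 1 0 1 0; linear_combination this
  have h12 : l 1 2 = 0 := by have := key 0 0 1 1 0 0; linear_combination -this
  have h11 : l 1 1 = l 0 0 := by
    have := key 1 1 0 0 0 1
    linear_combination this - h10 + h01
  have h22 : l 2 2 = l 0 0 := by
    have := key 1 0 1 0 1 0
    linear_combination -this + h02 - h20
  ext i j
  fin_cases i <;> fin_cases j <;> simp [h10, h20, h01, h21, h02, h12, h11, h22]

theorem ff_nonscalar {s r : F} (hg : Good s r) (hirr : ∀ x, (cu s r).eval x ≠ 0) {l : Matrix (Fin 3) (Fin 3) F}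
    (hd : l.det = 1) (hns : ∀ a : F, l ≠ a • (1 : Matrix (Fin 3) (Fin 3) F)) : FF s r l := by
  obtain ⟨w, y, hR⟩ := exists_basis hns
  set R : Matrix (Fin 3) (Fin 3) F := Matrix.of fun i j => ![w i, (l *ᵥ w) i, y i] j with hRdef
  have hu : IsUnit R.det := isUnit_iff_ne_zero.2 hR
  have h1 : R * R⁻¹ = 1 := Matrix.mul_nonsing_inv _ hu
  have h2 : R⁻¹ * R = 1 := Matrix.nonsing_inv_mul _ hu
  obtain ⟨N, hN⟩ : ∃ N, N = R⁻¹ * (l * R) := ⟨_, rfl⟩
  have hlR : l * R = R * N := by rw [hN, ← mul_assoc, h1, one_mul]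
  have hcol : ∀ i, N i 0 = (1 : Matrix (Fin 3) (Fin 3) F) i 1 := by
    intro i
    rw [hN, ← h2, Matrix.mul_apply, Matrix.mul_apply]
    refine Finset.sum_congr rfl fun j _ => ?_
    congr 1
  have hNd : N.det = 1 := by
    have h3 := congrArg Matrix.det hlR
    rw [Matrix.det_mul, Matrix.det_mul, hd, one_mul] at h3
    exact (mul_left_cancel₀ hR (by rw [mul_one]; exact h3)).symm
  have hNe : N = !![0, N 0 1, N 0 2; 1, N 1 1, N 1 2; 0, N 2 1, N 2 2] := by
    have h00 : N 0 0 = 0 := by rw [hcol]; simp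
    have h10 : N 1 0 = 1 := by rw [hcol]; simp
    have h20 : N 2 0 = 0 := by rw [hcol]; simp
    ext i j
    fin_cases i <;> fin_cases j <;> simp [h00, h10, h20]
  refine FF.conj ?_ hR hlR
  rcases dich_aux (N 0 1) (N 1 1) (N 2 1) (N 0 2) (N 1 2) (N 2 2) with ⟨v, hv⟩ | ⟨hc, hgk, δ, ha, hb⟩
  · rw [← hNe] at hv
    have hcp : N.charpoly = cu (N 0 0 + N 1 1 + N 2 2)
        (N 0 0 * N 1 1 - N 0 1 * N 1 0 + (N 0 0 * N 2 2 - N 0 2 * N 2 0) + (N 1 1 * N 2 2 - N 1 2 * N 2 1)) :=
      charpoly_of hNd rfl rfl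
    exact ff_cyc hg (cyc_of_vec hcp hv)
  · refine ff_rank_one hirr (k := N 2 2) (δ := δ) (h := N 1 2) ?_ hNd
    refine hNe.trans ?_
    ext i j
    fin_cases i <;> fin_cases j <;> simp [← ha, ← hb, ← hgk, hc]

/-- **Products of two conjugates in `SL₃(F)`.** -/
theorem sl_three [Finite F] {s r : F} (hg : Good s r) {c : Matrix.SpecialLinearGroup (Fin 3) F}
    (hc : (c : Matrix (Fin 3) (Fin 3) F).charpoly = cu s r) (hirr : Irreducible (cu s r))
    (l : Matrix.SpecialLinearGroup (Fin 3) F)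
    (hns : ∀ a : F, (l : Matrix (Fin 3) (Fin 3) F) ≠ a • (1 : Matrix (Fin 3) (Fin 3) F)) :
    ∃ a b : Matrix.SpecialLinearGroup (Fin 3) F, l = (a * c * a⁻¹) * (b * c * b⁻¹) := by
  have hroot : ∀ x, (cu s r).eval x ≠ 0 := by
    intro x hx
    have h1 := Polynomial.degree_eq_one_of_irreducible_of_root hirr hx
    have h2 : (cu s r).degree = 3 := by
      rw [← hc, Matrix.charpoly_degree_eq_dim]
      rfl
    rw [h2] at h1
    exact absurd h1 (by norm_num)
  obtain ⟨X', Y', hX, hY, e, hXc, hYc⟩ := ff_nonscalar hg hroot l.2 hns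
  have hcc : Cfsg.Agent.H150.MF.Cls (c : Matrix (Fin 3) (Fin 3) F) :=
    Cfsg.Agent.H150.MF.cls_of_irreducible (by rw [hc]; exact hirr)
  obtain ⟨a, ha⟩ := Cfsg.Agent.H150.MF.exists_conj (c := c) (d := ⟨X', hX⟩) hcc
    (Cfsg.Agent.H150.MF.cls_of_irreducible (by show Irreducible X'.charpoly; rw [hXc]; exact hirr))
    (by show _ = X'.charpoly; rw [hc, hXc])
  obtain ⟨b, hb⟩ := Cfsg.Agent.H150.MF.exists_conj (c := c) (d := ⟨Y', hY⟩) hcc
    (Cfsg.Agent.H150.MF.cls_of_irreducible (by show Irreducible Y'.charpoly; rw [hYc]; exact hirr))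
    (by show _ = Y'.charpoly; rw [hc, hYc])
  refine ⟨a, b, ?_⟩
  rw [← ha, ← hb]
  exact Subtype.ext e

end Cfsg.Agent.H538.TC
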