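import Cfsg.Agent.H538.TC.SLThree
import Cfsg.Agent.H126.PwO.Fld

/-!
Classes of `SL₃(F)` of order prime to 6 whose square contains every non-scalar element (S2464).

* `class_of_pol` : `|F| ≥ 5`, any irreducible cubic of determinant 1, of given order `s`;
* `exists_class` : `|F| ≥ 5`, order `(q² + q + 1) / (3, q² + q + 1)`;
* `exists_class_three`, `exists_class_four` : `|F| = 3`, order 13, `|F| = 4`, order 7;
* `exists_class_all` : all `|F| ≥ 3`.
-/

set_option autoImplicit false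

namespace Cfsg.Agent.H538.TC

open Matrix Polynomial
open Cfsg.Agent.H126.M3 (cu charpoly_three)
open Cfsg.Agent.H126.PwO (Pol exists_pol)

variable {F : Type*} [Field F]

/-- every non-scalar element is a product of two conjugates of `c` -/
def Sq (c : Matrix.SpecialLinearGroup (Fin 3) F) : Prop :=
  ∀ l : Matrix.SpecialLinearGroup (Fin 3) F,
    (∀ a : F, (l : Matrix (Fin 3) (Fin 3) F) ≠ a • (1 : Matrix (Fin 3) (Fin 3) F)) →
    ∃ a b : Matrix.SpecialLinearGroup (Fin 3) F, l = (a * c * a⁻¹) * (b * c * b⁻¹)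

theorem eq_cu {f : F[X]} (hm : f.Monic) (hd : f.natDegree = 3) (h0 : f.coeff 0 = -1) :
    f = cu (-f.coeff 2) (f.coeff 1) := by
  have h3 : f.coeff 3 = 1 := by
    have := hm.coeff_natDegree
    rwa [hd] at this
  rw [cu]
  refine (Polynomial.as_sum_range' f 4 (by rw [hd]; norm_num)).trans ?_
  rw [Finset.sum_range_succ, Finset.sum_range_succ, Finset.sum_range_succ, Finset.sum_range_one, h0, h3]
  simp only [← C_mul_X_pow_eq_monomial, map_neg, map_one, pow_zero, pow_one, mul_one, one_mul]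
  ring

/-- the companion matrix -/
def CoS (s r : F) : Matrix.SpecialLinearGroup (Fin 3) F :=
  ⟨Co s r, by rw [Co, Matrix.det_fin_three]; simp⟩

theorem CoS_charpoly (s r : F) : (CoS s r : Matrix (Fin 3) (Fin 3) F).charpoly = cu s r := by
  refine charpoly_of (CoS s r).2 ?_ ?_
  · simp [CoS, Co]
  · simp [CoS, Co]

theorem pow_eq_one_iff_dvd {c : Matrix.SpecialLinearGroup (Fin 3) F} (hc : Irreducible (c : Matrix (Fin 3) (Fin 3) F).charpoly)
    (k : ℕ) : c ^ k = 1 ↔ (c : Matrix (Fin 3) (Fin 3) F).charpoly ∣ X ^ k - 1 := by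
  have hmin : minpoly F (c : Matrix (Fin 3) (Fin 3) F) = (c : Matrix (Fin 3) (Fin 3) F).charpoly := by
    have hint : IsIntegral F (c : Matrix (Fin 3) (Fin 3) F) := Algebra.IsIntegral.isIntegral _
    obtain ⟨g, hg⟩ := Matrix.minpoly_dvd_charpoly (c : Matrix (Fin 3) (Fin 3) F)
    rcases hc.isUnit_or_isUnit hg with h | h
    · exact absurd h (minpoly.not_isUnit F _)
    · exact (Polynomial.eq_of_monic_of_associated (minpoly.monic hint) (Matrix.charpoly_monic _)
        ⟨h.unit, hg.symm⟩)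
  rw [← hmin, minpoly.dvd_iff, map_sub, map_pow, aeval_X, map_one, sub_eq_zero]
  constructor
  · intro h
    have := congrArg Subtype.val h
    rwa [Matrix.SpecialLinearGroup.coe_pow] at this
  · intro h
    apply Subtype.ext
    rw [Matrix.SpecialLinearGroup.coe_pow, h]
    rfl

/-- **A class of given order.** -/
theorem class_of_pol [Finite F] (hF : 5 ≤ Nat.card F) {s : ℕ} {f : F[X]} (hf : Pol F 3 s f) (h0 : f.coeff 0 = -1) :
    ∃ c : Matrix.SpecialLinearGroup (Fin 3) F, (c : Matrix (Fin 3) (Fin 3) F).charpoly = f ∧ orderOf c = s ∧ Sq c := by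
  have : Fintype F := Fintype.ofFinite F
  have e := eq_cu hf.monic hf.deg h0
  have hc : (CoS (-f.coeff 2) (f.coeff 1) : Matrix (Fin 3) (Fin 3) F).charpoly = f := (CoS_charpoly _ _).trans e.symm
  have hirr : Irreducible (CoS (-f.coeff 2) (f.coeff 1) : Matrix (Fin 3) (Fin 3) F).charpoly := by
    rw [hc]; exact hf.irr
  obtain ⟨z, hz, h1, h2, h3⟩ := exists_z (F := F) (by rwa [← Nat.card_eq_fintype_card])
  refine ⟨CoS (-f.coeff 2) (f.coeff 1), hc, ?_, fun l hl => sl_three (good_of hz h1 h2 h3 _ _) (CoS_charpoly _ _)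
    (by rw [← e]; exact hf.irr) l hl⟩
  have key : ∀ k, (CoS (-f.coeff 2) (f.coeff 1)) ^ k = 1 ↔ s ∣ k := by
    intro k
    rw [pow_eq_one_iff_dvd hirr, hc, hf.dvd]
  apply Nat.dvd_antisymm
  · exact orderOf_dvd_of_pow_eq_one ((key s).2 dvd_rfl)
  · exact (key _).1 (pow_orderOf_eq_one _)

theorem arith3 {q s : ℕ} (hq : 2 ≤ q) (hs : s ∣ q ^ 2 + q + 1) (h6 : s.Coprime 6) (h1 : s ≠ 1) :
    s ∣ q ^ 3 - 1 ∧ (∀ k, 0 < k → k < 3 → ¬ s ∣ q ^ k - 1) ∧ s ∣ (q ^ 3 - 1) / (q - 1) := by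
  obtain ⟨r, rfl⟩ : ∃ r, q = r + 1 := ⟨q - 1, by omega⟩
  have e3 : (r + 1) ^ 3 - 1 = r * ((r + 1) ^ 2 + (r + 1) + 1) := by
    have : (r + 1) ^ 3 = r * ((r + 1) ^ 2 + (r + 1) + 1) + 1 := by ring
    omega
  have h3 : ¬ s ∣ 3 := by
    intro h
    have h2 : s ∣ Nat.gcd s 6 := Nat.dvd_gcd dvd_rfl (h.trans (by norm_num))
    rw [h6] at h2
    exact h1 (Nat.dvd_one.1 h2)
  refine ⟨?_, ?_, ?_⟩
  · rw [e3]; exact hs.mul_left _
  · intro k hk hk' h
    have hkk : k = 1 ∨ k = 2 := by omega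
    rcases hkk with rfl | rfl
    · rw [pow_one, Nat.add_sub_cancel] at h
      apply h3
      have h4 : (r + 1) ^ 2 + (r + 1) + 1 = r * (r + 3) + 3 := by ring
      rw [h4] at hs
      exact (Nat.dvd_add_right (h.mul_right _)).1 hs
    · apply h3
      have e2 : (r + 1) ^ 2 - 1 = r * (r + 2) := by
        have : (r + 1) ^ 2 = r * (r + 2) + 1 := by ring
        omega
      rw [e2] at h
      have h4 : (r + 1) ^ 2 + (r + 1) + 1 = r * (r + 2) + (r + 3) := by ring
      rw [h4] at hs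
      have h5 : s ∣ r + 3 := (Nat.dvd_add_right h).1 hs
      have h6' : s ∣ r * (r + 3) := h5.mul_left _
      have h7 : r * (r + 3) = r * (r + 2) + r := by ring
      rw [h7] at h6'
      have h8 : s ∣ r := (Nat.dvd_add_right h).1 h6'
      exact (Nat.dvd_add_right h8).1 h5
  · rw [e3, Nat.add_sub_cancel, Nat.mul_div_cancel_left _ (by omega)]
    exact hs

/-- **A class of order `s`, for every `s ∣ q² + q + 1` prime to 6.** -/
theorem exists_class [Finite F] (hF : 5 ≤ Nat.card F) {s : ℕ} (hs : s ∣ Nat.card F ^ 2 + Nat.card F + 1)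
    (h6 : s.Coprime 6) (h1 : s ≠ 1) :
    ∃ c : Matrix.SpecialLinearGroup (Fin 3) F, Irreducible (c : Matrix (Fin 3) (Fin 3) F).charpoly ∧ orderOf c = s ∧
      Sq c := by
  obtain ⟨a1, a2, a3⟩ := arith3 (by omega) hs h6 h1
  obtain ⟨f, hf⟩ := exists_pol F (by norm_num) a1 a2
  have h0 : f.coeff 0 = -1 := by
    have := (hf.coef 1).2 (by rw [mul_one]; exact a3)
    rw [pow_one] at this
    linear_combination -this
  obtain ⟨c, hc, ho, h⟩ := class_of_pol hF hf h0
  exact ⟨c, by rw [hc]; exact hf.irr, ho, h⟩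

/-- the number `s` -/
theorem exists_s {q : ℕ} (hq : 2 ≤ q) : ∃ s, s ∣ q ^ 2 + q + 1 ∧ s.Coprime 6 ∧ s ≠ 1 := by
  have h2 : ¬ 2 ∣ q ^ 2 + q + 1 := by
    rw [← even_iff_two_dvd]
    have h3 : q ^ 2 + q + 1 = q * (q + 1) + 1 := by ring
    rw [h3]
    exact Nat.not_even_iff_odd.2 ((Nat.even_mul_succ_self q).add_one)
  by_cases h3 : 3 ∣ q ^ 2 + q + 1
  · obtain ⟨t, ht⟩ := h3
    have h9 : ¬ 3 ∣ t := by
      rintro ⟨w, rfl⟩
      have h5 : (q ^ 2 + q + 1) % 9 = 0 := by rw [ht]; omega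
      have h4 : q % 9 = 0 ∨ q % 9 = 1 ∨ q % 9 = 2 ∨ q % 9 = 3 ∨ q % 9 = 4 ∨ q % 9 = 5 ∨ q % 9 = 6 ∨ q % 9 = 7 ∨
        q % 9 = 8 := by omega
      rcases h4 with h | h | h | h | h | h | h | h | h <;> simp [Nat.add_mod, Nat.pow_mod, h] at h5
    refine ⟨t, ⟨3, by rw [ht, mul_comm]⟩, ?_, ?_⟩
    · have : (6 : ℕ) = 2 * 3 := rfl
      rw [this]
      refine Nat.Coprime.mul_right ?_ ?_
      · exact ((Nat.Prime.coprime_iff_not_dvd Nat.prime_two).2 fun h => h2 (by rw [ht]; exact h.mul_left _)).symm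
      · exact ((Nat.Prime.coprime_iff_not_dvd Nat.prime_three).2 h9).symm
    · rintro rfl
      have : 7 ≤ q ^ 2 + q + 1 := by nlinarith
      omega
  · refine ⟨q ^ 2 + q + 1, dvd_rfl, ?_, ?_⟩
    · have : (6 : ℕ) = 2 * 3 := rfl
      rw [this]
      exact Nat.Coprime.mul_right ((Nat.Prime.coprime_iff_not_dvd Nat.prime_two).2 h2).symm
        ((Nat.Prime.coprime_iff_not_dvd Nat.prime_three).2 h3).symm
    · have : 7 ≤ q ^ 2 + q + 1 := by nlinarith
      omega

theorem irr_cu {s r : F} (h : ∀ x, (cu s r).eval x ≠ 0) : Irreducible (cu s r) := by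
  have hc := CoS_charpoly s r
  have hm : (cu s r).Monic := by rw [← hc]; exact Matrix.charpoly_monic _
  have hd : (cu s r).natDegree = 3 := by rw [← hc, Matrix.charpoly_natDegree_eq_dim]; rfl
  rw [Polynomial.Monic.irreducible_iff_roots_eq_zero_of_degree_le_three hm (by rw [hd]; norm_num) (by rw [hd])]
  refine Multiset.eq_zero_of_forall_notMem fun x hx => h x ?_
  exact (mem_roots'.1 hx).2

theorem ne_one_of_irr {c : Matrix.SpecialLinearGroup (Fin 3) F}
    (hc : Irreducible (c : Matrix (Fin 3) (Fin 3) F).charpoly) : c ≠ 1 := by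
  intro h
  have h1 := (pow_eq_one_iff_dvd hc 1).1 (by rw [h, one_pow])
  have h2 : (X ^ 1 - 1 : F[X]) ≠ 0 := by
    intro h0
    have := congrArg (fun p : F[X] => p.eval 0) h0
    simp at this
  have h3 := natDegree_le_of_dvd h1 h2
  rw [Matrix.charpoly_natDegree_eq_dim, Fintype.card_fin] at h3
  have h4 : (X ^ 1 - 1 : F[X]).natDegree ≤ 1 := by compute_degree
  omega

/-- **`|F| = 3`.** -/
theorem exists_class_three [Finite F] (hF : Nat.card F = 3) :
    ∃ c : Matrix.SpecialLinearGroup (Fin 3) F, (c : Matrix (Fin 3) (Fin 3) F).charpoly = cu 1 (-1) ∧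
      Irreducible (c : Matrix (Fin 3) (Fin 3) F).charpoly ∧ orderOf c = 13 ∧ Sq c := by
  classical
  have : Fintype F := Fintype.ofFinite F
  have hF' : Fintype.card F = 3 := by rw [← Nat.card_eq_fintype_card, hF]
  have h3 : (3 : F) = 0 := by
    have := Nat.cast_card_eq_zero F
    rw [hF'] at this
    exact_mod_cast this
  have h2 : (2 : F) ≠ 0 := fun h => one_ne_zero (α := F) (by linear_combination h3 - h)
  have hne : (1 : F) ≠ -1 := fun h => h2 (by linear_combination h)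
  have hall : ∀ t : F, t = 0 ∨ t = 1 ∨ t = -1 := by
    have h4 : ({0, 1, -1} : Finset F) = Finset.univ := by
      rw [← Finset.card_eq_iff_eq_univ, hF']
      rw [Finset.card_insert_of_notMem, Finset.card_pair hne]
      simp
    intro t
    have := Finset.mem_univ t
    rw [← h4] at this
    simpa using this
  have hirr : Irreducible (cu (1 : F) (-1)) := by
    refine irr_cu fun x hx => ?_
    simp only [cu, eval_sub, eval_add, eval_mul, eval_pow, eval_X, eval_C] at hx
    rcases hall x with rfl | rfl | rfl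
    · exact one_ne_zero (α := F) (by linear_combination -hx)
    · exact h2 (by linear_combination -hx)
    · exact h2 (by linear_combination -hx)
  have hc := CoS_charpoly (1 : F) (-1)
  have hirr' : Irreducible (CoS (1 : F) (-1) : Matrix (Fin 3) (Fin 3) F).charpoly := by rw [hc]; exact hirr
  refine ⟨CoS 1 (-1), hc, hirr', ?_, fun l hl => sl_three (good_three hF') hc hirr l hl⟩
  have : Fact (Nat.Prime 13) := ⟨by norm_num⟩
  refine orderOf_eq_prime ?_ (ne_one_of_irr hirr')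
  rw [pow_eq_one_iff_dvd hirr', hc]
  have h3' : (3 : F[X]) = 0 := by
    have : (3 : F[X]) = C 3 := (map_ofNat C 3).symm
    rw [this, h3, C_0]
  refine ⟨1 - X - X ^ 3 + X ^ 5 + X ^ 6 + X ^ 7 - X ^ 8 + X ^ 9 + X ^ 10, ?_⟩
  rw [cu]
  simp only [map_neg, map_one]
  linear_combination (-(X ^ 3 - X ^ 6 - X ^ 7 - X ^ 11)) * h3'

/-- **`|F| = 4`.** -/
theorem exists_class_four [Finite F] (hF : Nat.card F = 4) :
    ∃ c : Matrix.SpecialLinearGroup (Fin 3) F, (c : Matrix (Fin 3) (Fin 3) F).charpoly = cu 0 1 ∧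
      Irreducible (c : Matrix (Fin 3) (Fin 3) F).charpoly ∧ orderOf c = 7 ∧ Sq c := by
  classical
  have : Fintype F := Fintype.ofFinite F
  have hF' : Fintype.card F = 4 := by rw [← Nat.card_eq_fintype_card, hF]
  have h2 : (2 : F) = 0 := by
    have h4 := Nat.cast_card_eq_zero F
    rw [hF'] at h4
    have h5 : (2 : F) * 2 = 0 := by
      have h6 : ((4 : ℕ) : F) = 4 := by norm_num
      rw [h6] at h4
      linear_combination h4
    exact (mul_self_eq_zero.1 h5)
  have hirr : Irreducible (cu (0 : F) 1) := by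
    refine irr_cu fun x hx => ?_
    simp only [cu, eval_sub, eval_add, eval_mul, eval_pow, eval_X, eval_C] at hx
    have hx0 : x ≠ 0 := by
      rintro rfl
      exact one_ne_zero (α := F) (by linear_combination -hx)
    have h3 : x ^ 3 = 1 := by
      have := FiniteField.pow_card_sub_one_eq_one x hx0
      rwa [hF'] at this
    exact hx0 (by linear_combination hx - h3)
  have hc := CoS_charpoly (0 : F) 1
  have hirr' : Irreducible (CoS (0 : F) 1 : Matrix (Fin 3) (Fin 3) F).charpoly := by rw [hc]; exact hirr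
  refine ⟨CoS 0 1, hc, hirr', ?_, fun l hl => sl_three (good_four hF') hc hirr l hl⟩
  have : Fact (Nat.Prime 7) := ⟨by norm_num⟩
  refine orderOf_eq_prime ?_ (ne_one_of_irr hirr')
  rw [pow_eq_one_iff_dvd hirr', hc]
  have h2' : (2 : F[X]) = 0 := by
    have : (2 : F[X]) = C 2 := (map_ofNat C 2).symm
    rw [this, h2, C_0]
  refine ⟨X ^ 4 + X ^ 2 + X + 1, ?_⟩
  rw [cu]
  simp only [map_zero, map_one]
  linear_combination (-(X ^ 5 + X ^ 3)) * h2'

/-- **All `|F| ≥ 3`.** -/
theorem exists_class_all [Finite F] (hF : 3 ≤ Nat.card F) :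
    ∃ c : Matrix.SpecialLinearGroup (Fin 3) F, Irreducible (c : Matrix (Fin 3) (Fin 3) F).charpoly ∧
      (orderOf c).Coprime 6 ∧ orderOf c ∣ Nat.card F ^ 2 + Nat.card F + 1 ∧ Sq c := by
  by_cases h3 : Nat.card F = 3
  · obtain ⟨c, -, h1, h2, h⟩ := exists_class_three h3
    exact ⟨c, h1, by rw [h2]; norm_num, by rw [h2, h3]; norm_num, h⟩
  by_cases h4 : Nat.card F = 4
  · obtain ⟨c, -, h1, h2, h⟩ := exists_class_four h4
    exact ⟨c, h1, by rw [h2]; norm_num, by rw [h2, h4]; norm_num, h⟩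
  obtain ⟨s, hs, h6, h1⟩ := exists_s (q := Nat.card F) (by omega)
  obtain ⟨c, hc, ho, h⟩ := exists_class (by omega) hs h6 h1
  exact ⟨c, hc, by rw [ho]; exact h6, by rw [ho]; exact hs, h⟩

end Cfsg.Agent.H538.TC
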