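import Cfsg.Agent.H538.TC.EEightFrame
import Cfsg.Agent.H777.T6.Defs

/-!
`E₈(q)`, `q = 4, 5, 7, 17` (S2464): `t6_of`, from the fixed pairs in `SL₅(q)` and `SL₄(q)`.
-/

set_option autoImplicit false
set_option linter.unusedSectionVars false

namespace Cfsg.Agent.H538.TC.E8F

open Cfsg.Lie Cfsg.Agent.H122.Pw Cfsg.Agent.H777.T6

universe u

/-- a fixed pair in `SL_n(K)` -/
def FP (n : ℕ) (K : Type u) [Field K] : Prop :=
  ∃ c d : Matrix.SpecialLinearGroup (Fin n) K, Irreducible (c : Matrix (Fin n) (Fin n) K).charpoly ∧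
    Irreducible (d : Matrix (Fin n) (Fin n) K).charpoly ∧ (orderOf c).Coprime 6 ∧ (orderOf d).Coprime 6 ∧ TLC n K c d

theorem order_map {G H : Type*} [Group G] [Group H] (f : G →* H) {x : G} {n : ℕ} (h : (orderOf x).Coprime n) :
    (orderOf (f x)).Coprime n := h.coprime_dvd_left (orderOf_map_dvd f x)

theorem order_prod {G H : Type*} [Group G] [Group H] {x : G} {y : H} {n : ℕ} (hx : (orderOf x).Coprime n)
    (hy : (orderOf y).Coprime n) : (orderOf (x, y)).Coprime n := by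
  rw [Prod.orderOf_mk]
  exact (Nat.Coprime.mul_left hx hy).coprime_dvd_left (Nat.lcm_dvd_mul _ _)

variable {K : Type u} [Field K] [Finite K]

theorem t6_of (hq : 3 ≤ Nat.card K) (hcop : (∑ a ∈ Finset.range 5, Nat.card K ^ a).Coprime (Nat.card K ^ 4 - 1))
    (h5 : FP 5 K) (h4 : FP 4 K) : T6 ↥(chevE8.group K) := by
  obtain ⟨c5, d5, hc5, hd5, oc5, od5, t5⟩ := h5
  obtain ⟨c4, d4, hc4, hd4, oc4, od4, t4⟩ := h4
  exact ⟨PhP K (c5, c4), PhP K (d5, d4), order_map _ (order_prod oc5 oc4), order_map _ (order_prod od5 od4),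
    six_frame hq hcop hc5 hd5 hc4 hd4 t5 t4⟩

theorem t6_of_card (hq : Nat.card K = 4 ∨ Nat.card K = 5 ∨ Nat.card K = 7 ∨ Nat.card K = 17)
    (h5 : FP 5 K) (h4 : FP 4 K) : T6 ↥(chevE8.group K) := by
  refine t6_of (by rcases hq with h | h | h | h <;> rw [h] <;> norm_num) ?_ h5 h4
  rcases hq with h | h | h | h <;> rw [h] <;> norm_num [Finset.sum_range_succ]

end Cfsg.Agent.H538.TC.E8F
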