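import Cfsg.Agent.H46.TL.Main
import Cfsg.Agent.H122.SX.EThree
import Cfsg.Agent.H122.SX.ETwo85
import Cfsg.Agent.H240.E8S.Main
import Cfsg.Agent.H538.TC.EEight

/-!
S2464: the row `E₈(q)`, all `q`.
-/

set_option autoImplicit false

namespace Cfsg.Agent.H538.TC.E8F

open Cfsg.Lie Cfsg.Agent.H777.T6

universe u

/-- `q = 4, 5, 7, 17` -/
theorem t6_E8_exc {K : Type u} [Field K] [Finite K]
    (hq : Nat.card K = 4 ∨ Nat.card K = 5 ∨ Nat.card K = 7 ∨ Nat.card K = 17) : T6 ↥(chevE8.group K) :=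
  t6_of_card hq (Cfsg.Agent.H46.TL.tl_five K hq) (Cfsg.Agent.H46.TL.tl_four K hq)

/-- **`E₈(q)`.** -/
theorem t6_E8_all {K : Type u} [Field K] [Finite K] : T6 ↥(chevE8.group K) := by
  have h1 : 1 < Nat.card K := Finite.one_lt_card
  by_cases h2 : Nat.card K = 2
  · exact Cfsg.Agent.H122.SX.t6_E8_two h2
  by_cases h3 : Nat.card K = 3
  · exact Cfsg.Agent.H122.SX.t6_E8_three h3
  by_cases hq : Nat.card K = 4 ∨ Nat.card K = 5 ∨ Nat.card K = 7 ∨ Nat.card K = 17
  · exact t6_E8_exc hq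
  · have h6 : Nat.card K ≠ 6 := by
      intro h
      have : Fintype K := Fintype.ofFinite K
      have h7 := FiniteField.isPrimePow_card K
      rw [← Nat.card_eq_fintype_card, h] at h7
      exact absurd h7 (by
        rw [isPrimePow_nat_iff]
        rintro ⟨p, k, hp, hk, e⟩
        have hp2 : p ∣ 6 := by rw [← e]; exact dvd_pow_self p hk.ne'
        have hple : p ≤ 6 := Nat.le_of_dvd (by norm_num) hp2
        have hk3 : k < 3 := by
          by_contra hk3
          have : 2 ^ 3 ≤ p ^ k := (Nat.pow_le_pow_left hp.two_le 3).trans (Nat.pow_le_pow_right hp.pos (by omega))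
          omega
        interval_cases p <;> interval_cases k <;> first | omega | (exact absurd hp (by norm_num)))
    exact Cfsg.Agent.H240.E8S.t6_E8_gen (by omega) (by tauto)

/-- **The row `E₈(q)` of S2464.** -/
theorem t6_E8 {S : Type*} [Group S] (h : Lie.IsoE8 S) : T6 S := by
  obtain ⟨F, i1, i2, ⟨e⟩⟩ := h
  exact T6.of_equiv e t6_E8_all

end Cfsg.Agent.H538.TC.E8F
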