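import Cfsg.Agent.H122.Pw.EEight
import Cfsg.Agent.H122.SX.GaussH
import Cfsg.Agent.H122.TC.Real

/-!
`E₈(q)`: two fixed classes from the Levi subgroup of type `A₄ A₃` (S2464).

* `lku_ne` : `L κ U` is not scalar if `κ` is not;
* `six_frame` : if every non-scalar element of `SL₅(q)`, `SL₄(q)` is a product of a conjugate of `c` and a conjugate of
  `d` (irreducible characteristic polynomials), then this is true in `E₈(q)`.
-/

set_option autoImplicit false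
set_option linter.unusedSectionVars false

namespace Cfsg.Agent.H538.TC.E8F

open CoxeterSystem Cfsg.Agent.ChevalleyStructure.CoxeterGeom Cfsg.Agent.Tits.Roots Cfsg.Agent.Tits.Core
  Cfsg.Agent.Nodes.Reps Cfsg.Agent.Nodes.BNOf Cfsg.Agent.Nodes.RGDLib Cfsg.Agent.Nodes.Bruhat
  Cfsg.Agent.Nodes.OppDec Cfsg.Agent.Nodes.LeviDec Cfsg.Agent.Nodes.KindChev Cfsg.Agent.Nodes.ChevCls
  Cfsg.Agent.OddHalf.NI.ModelChev Cfsg.Agent.Nodes.StabComb
  Cfsg.Agent.H162.GaussDec Cfsg.Agent.H162.GaussLevi Cfsg.Agent.H162.GaussSL Cfsg.Agent.H162.GaussReg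
  Cfsg.Agent.H162.GaussPQ
  Cfsg.Agent.H928.Ore.Frame
open Cfsg.Lie Cfsg.Agent.ChevalleyStructure Cfsg.Agent.ChevalleyStructure.Elts
  Cfsg.Agent.ChevalleyStructure.RootVec Cfsg.Agent.ChevalleyStructure.NPerm
  Cfsg.Agent.ChevalleyStructure.CoxeterGeomTypes Cfsg.Agent.Nodes.RGDChev Cfsg.Agent.KFacts.RgdChevCoord
open Cfsg.Agent.H482.Ore.Fix (Bk SimpB wt dgl phi_diag)
open Cfsg.Agent.H122.Pw
open scoped MatrixGroups

universe u

/-! ### The torus part -/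

section

variable {K : Type u} [Field K] {n : ℕ}

/-- two classes of `SL_n(K)` whose product contains all non-scalar matrices -/
def TLC (n : ℕ) (K : Type u) [Field K] (c d : Matrix.SpecialLinearGroup (Fin n) K) : Prop :=
  ∀ A : Matrix.SpecialLinearGroup (Fin n) K, (∀ a : K, (A : Matrix (Fin n) (Fin n) K) ≠ a • 1) →
    ∃ g h : Matrix.SpecialLinearGroup (Fin n) K, A = (g * c * g⁻¹) * (h * d * h⁻¹)

/-- `diag(u, u⁻¹, 1, ..)` -/
def lamu (n : ℕ) (u : Kˣ) : Fin (n + 2) → Kˣ := Fin.cons u (Fin.cons u⁻¹ fun _ => 1)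

theorem prod_lamu (n : ℕ) (u : Kˣ) : ∏ b, lamu n u b = 1 := by
  rw [Fin.prod_univ_succ, Fin.prod_univ_succ]
  simp [lamu]

/-- `diag(u, u⁻¹, 1, ..)` -/
noncomputable def kap (n : ℕ) (u : Kˣ) : Matrix.SpecialLinearGroup (Fin (n + 2)) K :=
  dgl (fun b => ((lamu n u b : Kˣ) : K)) (Cfsg.Agent.H482.Ore.Fix.prod_coe (prod_lamu n u))

theorem kap_apply (n : ℕ) (u : Kˣ) (i j : Fin (n + 2)) :
    (kap n u).1 i j = if i = j then ((lamu n u i : Kˣ) : K) else 0 := by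
  change Matrix.diagonal (fun b => ((lamu n u b : Kˣ) : K)) i j = _
  rw [Matrix.diagonal_apply]

/-- `L κ U` is not scalar -/
theorem lku_ne {u : Kˣ} (hu : u ≠ 1) {L U : Matrix.SpecialLinearGroup (Fin (n + 3)) K} (hL : L ∈ LT (n + 3) K)
    (hU : U ∈ UT (n + 3) K) (a : K) : (L * kap (n + 1) u * U).1 ≠ a • 1 := by
  intro h
  have hU' := mem_UT.1 (inv_mem hU)
  have hL' := mem_LT.1 hL
  have e : (L * kap (n + 1) u).1 = a • (U⁻¹).1 := by
    have h1 : (L * kap (n + 1) u * U * U⁻¹).1 = (a • (1 : Matrix (Fin (n + 3)) (Fin (n + 3)) K)) * (U⁻¹).1 := by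
      rw [← h]; rfl
    rwa [mul_inv_cancel_right, smul_mul_assoc, one_mul] at h1
  have hd : ∀ i, ((lamu (n + 1) u i : Kˣ) : K) = a := by
    intro i
    have h1 := congrFun (congrFun e i) i
    rw [Matrix.smul_apply, hU'.2, smul_eq_mul, mul_one] at h1
    have h2 : (L * kap (n + 1) u).1 i i = ((lamu (n + 1) u i : Kˣ) : K) := by
      change (L.1 * (kap (n + 1) u).1) i i = _
      rw [Matrix.mul_apply, Finset.sum_eq_single i, kap_apply, if_pos rfl, hL'.2, one_mul]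
      · intro k _ hk
        rw [kap_apply, if_neg hk, mul_zero]
      · intro h; exact absurd (Finset.mem_univ _) h
    rw [← h2, h1]
  have h0 := hd 0
  have h2 := hd 2
  apply hu
  apply Units.ext
  have e0 : lamu (n + 1) u 0 = u := rfl
  have e2 : lamu (n + 1) u 2 = 1 := rfl
  rw [e0] at h0
  rw [e2] at h2
  rw [h0, ← h2]

end

/-! ### The frame -/

section

variable {D : ChevalleyDatum} {l : ℕ} {M : CoxeterMatrix (Fin l)} {hp : IsType D l M} {K : Type u} [Field K]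
  {J : Set (Fin l)} {G : Type*} [Group G] {φ : G →* ↥(D.group K)} {L U : Subgroup G} {Q : ℕ → Prop}

/-- **Two fixed classes from a Levi subgroup, with a torus part.** -/
theorem Pc_two (h : Pc hp K J φ L U Q) (hQ : ∀ q < D.nroots, (∀ k, k ∉ J → vec D l q k = 0) → Q q)
    [Finite K] (hl : 0 < l) (hS : IsSimpleGroup ↥(D.group K) ∧ ¬ IsMulCommutative ↥(D.group K))
    (hM : ∀ J : Finset (Fin l), J = ∅ ∨ J = Finset.univ ∨ ∃ a ∈ J, ∃ b, b ∉ J ∧ M a b ≠ 2) {κ c d : G}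
    (hκ : φ κ ∈ TT D K)
    (hP : ∀ v ∈ L, ∀ u ∈ U, ∃ x y, v * κ * u = (x * c * x⁻¹) * (y * d * y⁻¹))
    (hc : NF (VNJ M.toCoxeterSystem hp.isCartan (XX D l K) J) (φ c))
    (hd : NF (VJ M.toCoxeterSystem hp.isCartan (XX D l K) J) (φ d))
    (g : ↥(D.group K)) (hg : g ≠ 1) :
    ∃ a b : ↥(D.group K), g = (a * φ c * a⁻¹) * (b * φ d * b⁻¹) := by
  obtain ⟨p, hpc⟩ := CharP.exists K
  have : Fact p.Prime := ⟨(CharP.char_is_prime_or_zero K p).resolve_right (CharP.char_ne_zero_of_finite K p)⟩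
  have := finite_W hp M.toCoxeterSystem
  have : Nonempty (Fin l) := ⟨⟨0, hl⟩⟩
  have R := rgd (K := K) hp M.toCoxeterSystem p
  obtain ⟨c₁, c₂, x, y, ⟨⟨z, hz⟩, w, hw⟩, e⟩ := Cfsg.Agent.H122.SX.pair_h R (G1_eq_top hp _)
    (Cfsg.Agent.H162.GaussExc.coord hp) (Cfsg.Agent.Nodes.ChevChart.irr_of hM) (J := J)
    (Pr := fun c₁ c₂ : ↥(D.group K) => (∃ x, c₁ = x * φ c * x⁻¹) ∧ ∃ y, c₂ = y * φ d * y⁻¹) hκ
    (fun v hv u hu => by
      obtain ⟨a, ha, rfl⟩ := h.exists_lo hQ hv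
      obtain ⟨b, hb, rfl⟩ := h.exists_up hQ hu
      obtain ⟨x, y, hxy⟩ := hP a ha b hb
      refine ⟨φ (x * c * x⁻¹), φ (y * d * y⁻¹), by rw [← map_mul, ← map_mul, hxy, map_mul],
        ⟨h.mem _, h.mem _, ?_, ?_⟩, ⟨φ x, by rw [map_mul, map_mul, map_inv]⟩, φ y, by rw [map_mul, map_mul, map_inv]⟩
      · rw [map_mul, map_mul, map_inv]
        exact Cfsg.Agent.H928.Ore.Fix.NF.conj (LJ_le_normalizer_VNJ R J (h.mem x)) hc
      · rw [map_mul, map_mul, map_inv]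
        exact Cfsg.Agent.H928.Ore.Fix.NF.conj (LJ_le_normalizer_VJ R J (h.mem y)) hd)
    (Cfsg.Agent.H224.Ore.Row.not_mem_core hl hS.1 p hp hg)
  refine ⟨x * z, y * w, ?_⟩
  rw [e, hz, hw]
  group

end

/-! ### `E₈` -/

section

variable {K : Type u} [Field K] [Finite K]

theorem kap_mem (u : Kˣ) : PhP K (kap 3 u, kap 2 u) ∈ TT chevE8 K := by
  have h1 : pa K (kap 3 u) ∈ TT chevE8 K :=
    (phi_diag hp8 (S := ⟨sima.1, sima.2⟩) (pa_tv K) (fun a => by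
      rw [rta.2.2.2.2.1 a.castSucc a.succ, ← Int.cast_mul, rta.2.2.2.1, Int.cast_one]) (lamu 3 u) (prod_lamu 3 u)).1
  have h2 : pb K (kap 2 u) ∈ TT chevE8 K :=
    (phi_diag hp8 (S := ⟨simb.1, simb.2⟩) (pb_tv K) (fun a => by
      rw [rtb.2.2.2.2.1 a.castSucc a.succ, ← Int.cast_mul, rtb.2.2.2.1, Int.cast_one]) (lamu 2 u) (prod_lamu 2 u)).1
  exact mul_mem h1 h2

/-- **`A₄ A₃` in `E₈(q)`, two fixed classes.** -/
theorem six_frame (hq : 3 ≤ Nat.card K)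
    (hcop : (∑ a ∈ Finset.range 5, Nat.card K ^ a).Coprime (Nat.card K ^ 4 - 1))
    {c5 d5 : Matrix.SpecialLinearGroup (Fin 5) K} {c4 d4 : Matrix.SpecialLinearGroup (Fin 4) K}
    (hc5 : Irreducible (c5 : Matrix (Fin 5) (Fin 5) K).charpoly) (hd5 : Irreducible (d5 : Matrix (Fin 5) (Fin 5) K).charpoly)
    (hc4 : Irreducible (c4 : Matrix (Fin 4) (Fin 4) K).charpoly) (hd4 : Irreducible (d4 : Matrix (Fin 4) (Fin 4) K).charpoly)
    (h5 : TLC 5 K c5 d5) (h4 : TLC 4 K c4 d4) (g : ↥(chevE8.group K)) (hg : g ≠ 1) :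
    ∃ a b : ↥(chevE8.group K), g = (a * PhP K (c5, c4) * a⁻¹) * (b * PhP K (d5, d4) * b⁻¹) := by
  obtain ⟨u, hu⟩ : ∃ u : Kˣ, u ≠ 1 := by
    have : Nontrivial Kˣ := by
      rw [← Finite.one_lt_card_iff_nontrivial, Nat.card_units]
      omega
    exact exists_ne 1
  refine Pc_two (pcP K) subP (by norm_num) (Cfsg.Agent.S1054.result chevE8 (by simp)) Cfsg.Agent.Nodes.ChevChart.irr8
    (κ := (kap 3 u, kap 2 u)) (c := (c5, c4)) (d := (d5, d4)) (kap_mem u) ?_ (nfP hcop hc5 hc4).2 (nfP hcop hd5 hd4).1 g hg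
  rintro ⟨L, L'⟩ ⟨hL, hL'⟩ ⟨U, U'⟩ ⟨hU, hU'⟩
  obtain ⟨x, y, e⟩ := h5 (L * kap 3 u * U) (lku_ne (n := 2) hu hL hU)
  obtain ⟨x', y', e'⟩ := h4 (L' * kap 2 u * U') (lku_ne (n := 1) hu hL' hU')
  exact ⟨(x, x'), (y, y'), Prod.ext e e'⟩

end

end Cfsg.Agent.H538.TC.E8F
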