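import Cfsg.Agent.H126.M3.Mat

/-!
Products of two elements of one class of `SL₃(F)` (S2464): explicit matrices.

* `SolM s r t t'` : the parameters of a pair of matrices with characteristic polynomial `T³ - s T² + r T - 1`, whose
  product is cyclic with characteristic polynomial `T³ - t T² + t' T - 1`;
* `dich` : a matrix `!![0,a,g;1,b,h;0,c,k]` has a cyclic vector, or is a scalar plus a matrix of rank one.
-/

set_option autoImplicit false

namespace Cfsg.Agent.H538.TC

open Matrix Polynomial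
open Cfsg.Agent.H126.M3 (cu charpoly_three)

variable {F : Type*} [Field F]

/-- the companion matrix of `T³ - t T² + t' T - 1` -/
def Co (t t' : F) : Matrix (Fin 3) (Fin 3) F := !![0, 0, 1; 1, 0, -t'; 0, 1, t]

/-- `M` is cyclic, with characteristic polynomial `T³ - t T² + t' T - 1` -/
def CycM (t t' : F) (M : Matrix (Fin 3) (Fin 3) F) : Prop :=
  ∃ R : Matrix (Fin 3) (Fin 3) F, R.det ≠ 0 ∧ M * R = R * Co t t'

/-- the parameters -/
def SolM (s r t t' : F) : Prop :=
  ∃ u z v y : F, u ≠ 0 ∧ z ≠ 0 ∧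
    z * t = (z - u) * y + (u * z ^ 2 - 1) * v - u * z * r - r ∧
    z * t' = -(u * y * (r * z + y)) - u * z * v * (r + v) - (r + v) * y - u * z ^ 2 * s - u * z * s

/-- `l` is a product of two matrices with characteristic polynomial `T³ - s T² + r T - 1` -/
def FF (s r : F) (l : Matrix (Fin 3) (Fin 3) F) : Prop :=
  ∃ X Y : Matrix (Fin 3) (Fin 3) F, X.det = 1 ∧ Y.det = 1 ∧ l = X * Y ∧ X.charpoly = cu s r ∧ Y.charpoly = cu s r

theorem FF.conj {s r : F} {l l' R : Matrix (Fin 3) (Fin 3) F} (h : FF s r l') (hR : R.det ≠ 0) (hl : l * R = R * l') :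
    FF s r l := by
  obtain ⟨X, Y, hX, hY, rfl, hXc, hYc⟩ := h
  have hu : IsUnit R.det := isUnit_iff_ne_zero.2 hR
  have h1 : R * R⁻¹ = 1 := Matrix.mul_nonsing_inv _ hu
  have h2 : R⁻¹ * R = 1 := Matrix.nonsing_inv_mul _ hu
  let U : (Matrix (Fin 3) (Fin 3) F)ˣ := ⟨R, R⁻¹, h1, h2⟩
  have hc : ∀ M : Matrix (Fin 3) (Fin 3) F, (R * M * R⁻¹).charpoly = M.charpoly := fun M =>
    Matrix.charpoly_units_conj U M
  have hd : ∀ M : Matrix (Fin 3) (Fin 3) F, (R * M * R⁻¹).det = M.det := fun M => Matrix.det_units_conj U M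
  refine ⟨R * X * R⁻¹, R * Y * R⁻¹, by rw [hd, hX], by rw [hd, hY], ?_, by rw [hc]; exact hXc, by rw [hc]; exact hYc⟩
  calc l = l * R * R⁻¹ := by rw [mul_assoc, h1, mul_one]
    _ = R * X * (R⁻¹ * R) * Y * R⁻¹ := by rw [hl, h2]; simp only [mul_assoc, one_mul]
    _ = _ := by simp only [mul_assoc]

theorem charpoly_of {s r : F} {M : Matrix (Fin 3) (Fin 3) F} (h0 : M.det = 1) (h1 : M 0 0 + M 1 1 + M 2 2 = s)
    (h2 : M 0 0 * M 1 1 - M 0 1 * M 1 0 + (M 0 0 * M 2 2 - M 0 2 * M 2 0) + (M 1 1 * M 2 2 - M 1 2 * M 2 1) = r) :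
    M.charpoly = cu s r := by
  rw [charpoly_three, h0, h1, h2]
  rfl

/-- two cyclic matrices with the same characteristic polynomial -/
theorem FF.cyc {s r t t' : F} {l l' : Matrix (Fin 3) (Fin 3) F} (hl : CycM t t' l) (hl' : CycM t t' l') (h : FF s r l') :
    FF s r l := by
  obtain ⟨R, hR, e⟩ := hl
  obtain ⟨R', hR', e'⟩ := hl'
  have hu : IsUnit R'.det := isUnit_iff_ne_zero.2 hR'
  have h1 : R' * R'⁻¹ = 1 := Matrix.mul_nonsing_inv _ hu
  have h2 : R'⁻¹ * R' = 1 := Matrix.nonsing_inv_mul _ hu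
  have hd : (R'⁻¹).det ≠ 0 := by
    intro h0
    have := congrArg Matrix.det h1
    rw [Matrix.det_mul, h0, mul_zero, Matrix.det_one] at this
    exact zero_ne_one this
  refine h.conj (R := R * R'⁻¹) (by rw [Matrix.det_mul]; exact mul_ne_zero hR hd) ?_
  have e2 : Co t t' * R'⁻¹ = R'⁻¹ * l' := by
    calc Co t t' * R'⁻¹ = (R'⁻¹ * R') * Co t t' * R'⁻¹ := by rw [h2, one_mul]
      _ = R'⁻¹ * (R' * Co t t') * R'⁻¹ := by simp only [mul_assoc]
      _ = R'⁻¹ * l' * (R' * R'⁻¹) := by rw [← e']; simp only [mul_assoc]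
      _ = R'⁻¹ * l' := by rw [h1, mul_one]
  calc l * (R * R'⁻¹) = (l * R) * R'⁻¹ := by rw [mul_assoc]
    _ = R * (Co t t' * R'⁻¹) := by rw [e, mul_assoc]
    _ = R * R'⁻¹ * l' := by rw [e2, mul_assoc]

/-- the two matrices -/
def Xm (u v s r : F) : Matrix (Fin 3) (Fin 3) F := !![0, 0, u⁻¹; u, 0, -r - v; u * v, 1, s]

/-- the two matrices -/
def Ym (z y s r : F) : Matrix (Fin 3) (Fin 3) F := !![0, -r - y * z⁻¹, z; 1, s, y; 0, z⁻¹, 0]

theorem mul_XY {u z v y s r : F} (hu : u ≠ 0) (hz : z ≠ 0) : Xm u v s r * Ym z y s r =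
    !![0, u⁻¹ * z⁻¹, 0; 0, u * (-r - y * z⁻¹) + (-r - v) * z⁻¹, u * z;
      1, u * v * (-r - y * z⁻¹) + s + s * z⁻¹, u * v * z + y] := by
  ext i j
  fin_cases i <;> fin_cases j <;> simp [Xm, Ym, Matrix.mul_apply, Fin.sum_univ_three]

theorem ff_of_sol {s r t t' : F} {l : Matrix (Fin 3) (Fin 3) F} (hl : CycM t t' l) (h : SolM s r t t') : FF s r l := by
  obtain ⟨u, z, v, y, hu, hz, e1, e2⟩ := h
  have hX : (Xm u v s r).det = 1 := by
    simp [Xm, Matrix.det_fin_three, hu]
  have hY : (Ym z y s r).det = 1 := by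
    simp [Ym, Matrix.det_fin_three, hz]
  refine FF.cyc hl (l' := Xm u v s r * Ym z y s r) ?_ ⟨_, _, hX, hY, rfl, charpoly_of hX ?_ ?_, charpoly_of hY ?_ ?_⟩
  · refine ⟨!![1, 0, 0; 0, 0, u * z; 0, 1, u * v * z + y], ?_, ?_⟩
    · rw [Matrix.det_fin_three]
      simp [hu, hz]
    · rw [mul_XY hu hz]
      have e1' : t = u * (-r - y * z⁻¹) + (-r - v) * z⁻¹ + (u * v * z + y) := by
        field_simp
        linear_combination e1
      have e2' : t' = (u * (-r - y * z⁻¹) + (-r - v) * z⁻¹) * (u * v * z + y) -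
          u * z * (u * v * (-r - y * z⁻¹) + s + s * z⁻¹) := by
        field_simp
        linear_combination e2
      rw [Co, e1', e2']
      ext i j
      fin_cases i <;> fin_cases j <;> simp [Matrix.mul_apply, Fin.sum_univ_three] <;> field_simp <;> ring
  · simp [Xm]
  · simp [Xm]
    field_simp
    ring
  · simp [Ym]
  · simp [Ym]
    try field_simp
    try ring

/-! ### Cyclic vectors -/

/-- the matrix with the columns `v`, `M v`, `M² v` -/
def Kry (M : Matrix (Fin 3) (Fin 3) F) (v : Fin 3 → F) : Matrix (Fin 3) (Fin 3) F :=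
  Matrix.of fun i j => ![v i, (M *ᵥ v) i, (M *ᵥ (M *ᵥ v)) i] j

theorem cyc_of_vec {t t' : F} {M : Matrix (Fin 3) (Fin 3) F} (hM : M.charpoly = cu t t') {v : Fin 3 → F}
    (h : (Kry M v).det ≠ 0) : CycM t t' M := by
  refine ⟨Kry M v, h, ?_⟩
  have h1 := Matrix.aeval_self_charpoly M
  rw [hM, cu] at h1
  simp only [map_sub, map_add, map_mul, map_pow, aeval_X, aeval_C, map_one] at h1
  have h2 : M * (M * M) = t • (M * M) - t' • M + 1 := by
    rw [Algebra.algebraMap_eq_smul_one, Algebra.algebraMap_eq_smul_one] at h1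
    simp only [smul_mul_assoc, one_mul] at h1
    have h3 : M ^ 3 = M * (M * M) := by rw [pow_succ, pow_two, mul_assoc]
    have h5 : M * (M * M) - t • (M * M) + t' • M - 1 = 0 := by
      rw [← h3]
      simpa [pow_two] using h1
    have h6 : M * (M * M) = (M * (M * M) - t • (M * M) + t' • M - 1) + (t • (M * M) - t' • M + 1) := by abel
    rw [h6, h5, zero_add]
  have h3 : M *ᵥ (M *ᵥ (M *ᵥ v)) = t • (M *ᵥ (M *ᵥ v)) - t' • (M *ᵥ v) + v := by
    have h4 := congrArg (fun N : Matrix (Fin 3) (Fin 3) F => N *ᵥ v) h2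
    simpa only [← Matrix.mulVec_mulVec, Matrix.add_mulVec, Matrix.sub_mulVec, Matrix.smul_mulVec, Matrix.one_mulVec]
      using h4
  have hcol : ∀ (w : Fin 3 → F) (i : Fin 3), (M *ᵥ w) i = M i 0 * w 0 + M i 1 * w 1 + M i 2 * w 2 := by
    intro w i
    simp [Matrix.mulVec, dotProduct, Fin.sum_univ_three]
  ext i j
  have h5 := congrFun h3 i
  rw [Pi.add_apply, Pi.sub_apply, Pi.smul_apply, Pi.smul_apply, smul_eq_mul, smul_eq_mul] at h5
  rw [Matrix.mul_apply, Matrix.mul_apply, Fin.sum_univ_three, Fin.sum_univ_three]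
  fin_cases j
  · simp [Kry, Co, hcol]
  · simp [Kry, Co, hcol]
  · simp only [Kry, Co, Matrix.of_apply, Matrix.cons_val', Matrix.cons_val_zero, Matrix.cons_val_one,
      Matrix.cons_val, Fin.reduceFinMk, Fin.isValue]
    have h6 := hcol (M *ᵥ (M *ᵥ v)) i
    linear_combination h5 - h6

theorem dich_aux (a b c g h k : F) :
    (∃ v : Fin 3 → F, (Kry !![0, a, g; 1, b, h; 0, c, k] v).det ≠ 0) ∨
      (c = 0 ∧ g = -k * h ∧ ∃ δ, a = -k * δ ∧ b = k + δ) := by
  by_cases hc : c = 0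
  · subst hc
    by_cases hcon : ∀ p q : F, (Kry !![0, a, g; 1, b, h; 0, 0, k] ![p, q, 1]).det = 0
    · right
      have key : ∀ p q : F, (a * q + g - k * p) ^ 2 + b * (a * q + g - k * p) * (p + b * q + h - k * q) -
          a * (p + b * q + h - k * q) ^ 2 = 0 := by
        intro p q
        have h1 := hcon p q
        rw [Matrix.det_fin_three] at h1
        simp [Kry, Matrix.mulVec, dotProduct, Fin.sum_univ_three] at h1
        linear_combination h1
      have ha : a = -k * (b - k) := by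
        by_contra hne
        have hΔ : -k * (b - k) - a ≠ 0 := fun h0 => hne (by linear_combination -h0)
        obtain ⟨p, q, e1, e2⟩ : ∃ p q : F, a * q + g - k * p = 1 ∧ p + b * q + h - k * q = 0 := by
          obtain ⟨d, hd⟩ : ∃ d, (-k * (b - k) - a) * d = 1 := ⟨_, mul_inv_cancel₀ hΔ⟩
          refine ⟨((1 - g) * (b - k) + a * h) * d, (k * h - 1 + g) * d, ?_, ?_⟩
          · linear_combination (1 - g) * hd
          · linear_combination (-h) * hd
        have h2 := key p q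
        rw [e1, e2] at h2
        simp at h2
      refine ⟨rfl, ?_, b - k, ha, by ring⟩
      by_contra hg
      have hg' : g + k * h ≠ 0 := fun h0 => hg (by linear_combination h0)
      have hfac : ∀ τ : F, g + (b - k) * h + ((b - k) - k) * τ = 0 := by
        intro τ
        have h2 := key τ 0
        have h3 : (g + k * h) * (g + (b - k) * h + ((b - k) - k) * τ) = 0 := by
          linear_combination h2 + (h + τ) ^ 2 * ha
        exact (mul_eq_zero.1 h3).resolve_left hg'
      have h4 := hfac 0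
      have h5 := hfac 1
      exact hg' (by linear_combination h4 - h * (h5 - h4))
    · left
      push Not at hcon
      obtain ⟨p, q, h1⟩ := hcon
      exact ⟨_, h1⟩
  · left
    refine ⟨![1, 0, 0], ?_⟩
    rw [Matrix.det_fin_three]
    simp [Kry, Matrix.mulVec, dotProduct, Fin.sum_univ_three, hc]

end Cfsg.Agent.H538.TC
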