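import Cfsg.Agent.H538.TC.SLThreeA
import Cfsg.Agent.H130.War.RankLe
import Cfsg.Agent.H150.MF.Big

/-!
Every nonscalar element of `SL₃(F)`, `F` finite with at least three elements, is a product of two elements with the
characteristic polynomial `T³ - s T² + r T - 1` (irreducible; `(s, r) = (1, -1)` for `|F| = 3`, `(0, 1)` for `|F| = 4`)
(S2464).
-/

set_option autoImplicit false

namespace Cfsg.Agent.H538.TC

open Matrix Polynomial
open Cfsg.Agent.H126.M3 (cu charpoly_three)

variable {F : Type*} [Field F]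

/-! ### Solutions -/

theorem sol_of {s r t t' z w k v : F} (hz : z ≠ 0) (h1 : z + 1 ≠ 0) (hw : (z + 1) * w = -1)
    (hk : (z ^ 2 + z + 1) * k = z * (z + 1) * t + r)
    (hv : (z - 1) * (k - r) * v = k * (k - r) - z * (z + 1) * (t' - s)) : SolM s r t t' := by
  refine ⟨w, z, v, v + k, ?_, hz, ?_, ?_⟩
  · rintro rfl
    simp at hw
  · refine mul_left_cancel₀ h1 ?_
    linear_combination -hk - (-(v + k) + z ^ 2 * v - z * r) * hw
  · refine mul_left_cancel₀ h1 ?_
    linear_combination hv + ((v + k) * (r * z + (v + k)) + z * v * (r + v) + z * (z + 1) * s) * hw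

theorem sol_gen {s r t t' z : F} (hz : z ≠ 0) (h1 : z + 1 ≠ 0) (h2 : z - 1 ≠ 0) (h3 : z ^ 2 + z + 1 ≠ 0)
    (ht : t ≠ r) : SolM s r t t' := by
  obtain ⟨w, hw⟩ : ∃ w, (z + 1) * w = -1 := ⟨(z + 1)⁻¹ * (-1), by rw [← mul_assoc, mul_inv_cancel₀ h1, one_mul]⟩
  obtain ⟨k, hk⟩ : ∃ k, (z ^ 2 + z + 1) * k = z * (z + 1) * t + r :=
    ⟨(z ^ 2 + z + 1)⁻¹ * (z * (z + 1) * t + r), by rw [← mul_assoc, mul_inv_cancel₀ h3, one_mul]⟩
  have hkr : k - r ≠ 0 := by
    intro h0
    have h4 : z * (z + 1) * (t - r) = 0 := by linear_combination (z ^ 2 + z + 1) * h0 - hk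
    rcases mul_eq_zero.1 h4 with h5 | h5
    · rcases mul_eq_zero.1 h5 with h6 | h6
      · exact hz h6
      · exact h1 h6
    · exact ht (sub_eq_zero.1 h5)
  have h4 : (z - 1) * (k - r) ≠ 0 := mul_ne_zero h2 hkr
  exact sol_of hz h1 hw hk (v := ((z - 1) * (k - r))⁻¹ * (k * (k - r) - z * (z + 1) * (t' - s)))
    (by rw [← mul_assoc, mul_inv_cancel₀ h4, one_mul])

theorem sol_eq {s r z : F} (hz : z ≠ 0) (h1 : z + 1 ≠ 0) : SolM s r r s := by
  obtain ⟨w, hw⟩ : ∃ w, (z + 1) * w = -1 := ⟨(z + 1)⁻¹ * (-1), by rw [← mul_assoc, mul_inv_cancel₀ h1, one_mul]⟩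
  exact sol_of hz h1 hw (k := r) (v := 0) (by ring) (by ring)

/-- all parameters are reached -/
def Good (s r : F) : Prop := ∀ t t' : F, SolM s r t t' ∨ SolM r s t' t

theorem good_of {z : F} (hz : z ≠ 0) (h1 : z + 1 ≠ 0) (h2 : z - 1 ≠ 0) (h3 : z ^ 2 + z + 1 ≠ 0) (s r : F) :
    Good s r := by
  intro t t'
  by_cases ht : t = r
  · by_cases ht' : t' = s
    · subst ht ht'
      exact Or.inl (sol_eq hz h1)
    · exact Or.inr (sol_gen hz h1 h2 h3 ht')
  · exact Or.inl (sol_gen hz h1 h2 h3 ht)

theorem exists_z [Fintype F] (hF : 5 ≤ Fintype.card F) :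
    ∃ z : F, z ≠ 0 ∧ z + 1 ≠ 0 ∧ z - 1 ≠ 0 ∧ z ^ 2 + z + 1 ≠ 0 := by
  classical
  by_cases h6 : (2 : F) ≠ 0 ∧ (3 : F) ≠ 0
  · obtain ⟨h2, h3⟩ := h6
    refine ⟨-2, neg_ne_zero.2 h2, ?_, ?_, ?_⟩
    · intro h; exact one_ne_zero (α := F) (by linear_combination -h)
    · intro h; exact h3 (by linear_combination -h)
    · intro h; exact h3 (by linear_combination h)
  · have h8 : 5 < Fintype.card F := by
      rcases lt_or_eq_of_le hF with h | h
      · exact h
      · exfalso
        apply h6
        have h5 : (5 : F) = 0 := by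
          have := Nat.cast_card_eq_zero F
          rw [← h] at this
          exact_mod_cast this
        constructor
        · intro h2
          exact one_ne_zero (α := F) (by linear_combination h5 - 2 * h2)
        · intro h3
          exact one_ne_zero (α := F) (by linear_combination 2 * h3 - h5)
    let f : F[X] := X * (X + C 1) * (X - C 1) * (X ^ 2 + X + C 1)
    have hm2 : (X ^ 2 + X + C 1 : F[X]).Monic := by
      have : (X ^ 2 + X + C 1 : F[X]) = X ^ 2 + (X + C 1) := by ring
      rw [this]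
      exact monic_X_pow_add (by rw [degree_X_add_C]; norm_num)
    have hd2 : (X ^ 2 + X + C 1 : F[X]).natDegree ≤ 2 := by compute_degree
    have hf0 : f ≠ 0 :=
      (((monic_X.mul (monic_X_add_C 1)).mul (monic_X_sub_C 1)).mul hm2).ne_zero
    have hfd : f.natDegree ≤ 5 := by
      refine (natDegree_mul_le).trans ?_
      refine (Nat.add_le_add (natDegree_mul_le.trans (Nat.add_le_add (natDegree_mul_le.trans
        (Nat.add_le_add natDegree_X_le (natDegree_X_add_C (1 : F)).le)) (natDegree_X_sub_C (1 : F)).le)) hd2).trans ?_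
      norm_num
    obtain ⟨z, hz⟩ := Polynomial.exists_eval_ne_zero_of_natDegree_lt_card f hf0 (by
      rw [Cardinal.mk_fintype]
      exact_mod_cast lt_of_le_of_lt hfd h8)
    simp only [f, eval_mul, eval_add, eval_sub, eval_X, eval_C, eval_pow] at hz
    refine ⟨z, ?_, ?_, ?_, ?_⟩ <;> intro h0 <;> apply hz <;> rw [h0] <;> ring

theorem good_three [Fintype F] (hF : Fintype.card F = 3) : Good (1 : F) (-1) := by
  classical
  have h3 : (3 : F) = 0 := by
    have := Nat.cast_card_eq_zero F
    rw [hF] at this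
    exact_mod_cast this
  have h2 : (2 : F) ≠ 0 := fun h => one_ne_zero (α := F) (by linear_combination h3 - h)
  have hne : (1 : F) ≠ -1 := fun h => h2 (by linear_combination h)
  have hall : ∀ t : F, t = 0 ∨ t = 1 ∨ t = -1 := by
    have h4 : ({0, 1, -1} : Finset F) = Finset.univ := by
      rw [← Finset.card_eq_iff_eq_univ, hF]
      rw [Finset.card_insert_of_notMem, Finset.card_pair hne]
      simp
    intro t
    have := Finset.mem_univ t
    rw [← h4] at this
    simpa using this
  intro t t'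
  left
  rcases hall t with rfl | rfl | rfl <;> rcases hall t' with rfl | rfl | rfl
  · exact ⟨1, -1, 0, 0, one_ne_zero, neg_ne_zero.2 one_ne_zero, by linear_combination (0 : F) * h3, by linear_combination (0 : F) * h3⟩
  · exact ⟨1, -1, -1, 0, one_ne_zero, neg_ne_zero.2 one_ne_zero, by linear_combination (0 : F) * h3, by linear_combination (-1 : F) * h3⟩
  · exact ⟨-1, 1, 0, 0, neg_ne_zero.2 one_ne_zero, one_ne_zero, by linear_combination (0 : F) * h3, by linear_combination (-1 : F) * h3⟩
  · exact ⟨1, -1, 1, -1, one_ne_zero, neg_ne_zero.2 one_ne_zero, by linear_combination (-1 : F) * h3, by linear_combination (0 : F) * h3⟩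
  · exact ⟨1, -1, 0, -1, one_ne_zero, neg_ne_zero.2 one_ne_zero, by linear_combination (-1 : F) * h3, by linear_combination (0 : F) * h3⟩
  · exact ⟨-1, 1, 1, 0, neg_ne_zero.2 one_ne_zero, one_ne_zero, by linear_combination (1 : F) * h3, by linear_combination (-1 : F) * h3⟩
  · exact ⟨-1, 1, 0, 1, neg_ne_zero.2 one_ne_zero, one_ne_zero, by linear_combination (-1 : F) * h3, by linear_combination (-1 : F) * h3⟩
  · exact ⟨1, 1, 0, 0, one_ne_zero, one_ne_zero, by linear_combination (-1 : F) * h3, by linear_combination (1 : F) * h3⟩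
  · exact ⟨1, 1, 0, 1, one_ne_zero, one_ne_zero, by linear_combination (-1 : F) * h3, by linear_combination (0 : F) * h3⟩

theorem good_four [Fintype F] (hF : Fintype.card F = 4) : Good (0 : F) 1 := by
  classical
  have h2 : (2 : F) = 0 := by
    have h4 := Nat.cast_card_eq_zero F
    rw [hF] at h4
    have h5 : (2 : F) * 2 = 0 := by
      have h6 : ((4 : ℕ) : F) = 4 := by norm_num
      rw [h6] at h4
      linear_combination h4
    exact (mul_self_eq_zero.1 h5)
  obtain ⟨w, hwn⟩ : ∃ w : F, w ∉ ({0, 1} : Finset F) := by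
    by_contra h
    push Not at h
    have h3 : (Finset.univ : Finset F).card ≤ ({0, 1} : Finset F).card := Finset.card_le_card fun x _ => h x
    rw [Finset.card_univ, hF] at h3
    exact absurd (h3.trans Finset.card_le_two) (by norm_num)
  have hw0 : w ≠ 0 := fun h => hwn (by simp [h])
  have hwo : w ≠ 1 := fun h => hwn (by simp [h])
  have hw : w ^ 2 + w + 1 = 0 := by
    have h3 : w ^ 3 = 1 := by
      have := FiniteField.pow_card_sub_one_eq_one w hw0
      rwa [hF] at this
    have h4 : (w - 1) * (w ^ 2 + w + 1) = 0 := by linear_combination h3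
    exact (mul_eq_zero.1 h4).resolve_left (sub_ne_zero.2 hwo)
  have hw1 : w + 1 ≠ 0 := fun h => hwo (by linear_combination h - h2)
  have hall : ∀ t : F, t = 0 ∨ t = 1 ∨ t = w ∨ t = w + 1 := by
    have h4 : ({0, 1, w, w + 1} : Finset F) = Finset.univ := by
      rw [← Finset.card_eq_iff_eq_univ, hF]
      rw [Finset.card_insert_of_notMem, Finset.card_insert_of_notMem, Finset.card_pair]
      · intro h
        exact one_ne_zero (α := F) (by linear_combination -h)
      · simp only [Finset.mem_insert, Finset.mem_singleton, not_or]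
        exact ⟨fun h => hwo h.symm, fun h => hw0 (by linear_combination -h)⟩
      · simp only [Finset.mem_insert, Finset.mem_singleton, not_or]
        exact ⟨zero_ne_one, fun h => hw0 h.symm, fun h => hw1 h.symm⟩
    intro t
    have := Finset.mem_univ t
    rw [← h4] at this
    simpa using this
  intro t t'
  left
  rcases hall t with rfl | rfl | ht | ht <;> rcases hall t' with rfl | rfl | ht' | ht' <;> (try rw [ht]) <;>
    (try rw [ht'])
  · exact ⟨1, 1, 0, 0, one_ne_zero, one_ne_zero, by linear_combination (0 : F) * hw + ((1)) * h2, by linear_combination (0 : F) * hw + (0) * h2⟩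
  · exact ⟨1, 1, 0, 1, one_ne_zero, one_ne_zero, by linear_combination (0 : F) * hw + ((1)) * h2, by linear_combination (0 : F) * hw + ((2)) * h2⟩
  · exact ⟨1, 1, 0, (w+1), one_ne_zero, one_ne_zero, by linear_combination (0 : F) * hw + ((1)) * h2, by linear_combination ((1) : F) * hw + ((1)+(2)*w^1) * h2⟩
  · exact ⟨1, 1, 0, w, one_ne_zero, one_ne_zero, by linear_combination (0 : F) * hw + ((1)) * h2, by linear_combination ((1) : F) * hw + ((1)*w^1) * h2⟩
  · exact ⟨w, w, 0, 0, hw0, hw0, by linear_combination ((1) : F) * hw + (0) * h2, by linear_combination (0 : F) * hw + (0) * h2⟩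
  · exact ⟨1, w, 0, w, one_ne_zero, hw0, by linear_combination ((-1) : F) * hw + ((1)+(2)*w^1) * h2, by linear_combination ((2) : F) * hw + ((-1)) * h2⟩
  · exact ⟨1, w, 1, 1, one_ne_zero, hw0, by linear_combination ((-1) : F) * hw + ((2)+(1)*w^1) * h2, by linear_combination ((1) : F) * hw + ((1)+(1)*w^1) * h2⟩
  · exact ⟨1, (w+1), 1, 1, one_ne_zero, hw1, by linear_combination ((-1) : F) * hw + ((2)) * h2, by linear_combination ((1) : F) * hw + ((3)+(2)*w^1) * h2⟩
  · exact ⟨1, w, 0, 0, one_ne_zero, hw0, by linear_combination ((1) : F) * hw + (0) * h2, by linear_combination (0 : F) * hw + (0) * h2⟩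
  · exact ⟨1, w, w, 1, one_ne_zero, hw0, by linear_combination ((2)+(-1)*w^1 : F) * hw + (0) * h2, by linear_combination ((1)*w^1 : F) * hw + ((1)+(1)*w^1) * h2⟩
  · exact ⟨1, w, 1, (w+1), one_ne_zero, hw0, by linear_combination ((-1) : F) * hw + ((2)+(1)*w^1) * h2, by linear_combination ((3) : F) * hw + ((2)*w^1) * h2⟩
  · exact ⟨1, w, (w+1), w, one_ne_zero, hw0, by linear_combination ((-1)*w^1 : F) * hw + ((1)+(2)*w^1) * h2, by linear_combination ((6)+(1)*w^1 : F) * hw + ((-3)+(-1)*w^1) * h2⟩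
  · exact ⟨1, w, 0, (w+1), one_ne_zero, hw0, by linear_combination (0 : F) * hw + ((1)+(1)*w^1) * h2, by linear_combination ((2) : F) * hw + ((1)*w^1) * h2⟩
  · exact ⟨1, (w+1), (w+1), 1, one_ne_zero, hw1, by linear_combination ((-1)+(-1)*w^1 : F) * hw + ((2)+(1)*w^1) * h2, by linear_combination ((3)+(1)*w^1 : F) * hw + ((2)+(2)*w^1) * h2⟩
  · exact ⟨1, w, w, w, one_ne_zero, hw0, by linear_combination ((1)+(-1)*w^1 : F) * hw + ((2)*w^1) * h2, by linear_combination ((4)+(1)*w^1 : F) * hw + ((-2)+(-2)*w^1) * h2⟩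
  · exact ⟨1, (w+1), 1, w, one_ne_zero, hw1, by linear_combination ((-1) : F) * hw + ((2)+(1)*w^1) * h2, by linear_combination ((3) : F) * hw + ((2)*w^1) * h2⟩

end Cfsg.Agent.H538.TC
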